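import Groth.Agent.BranchBC.Count
import Groth.Agent.ReducedNormalization.Components
import Groth.Agent.NormalizationAffine.EnatTsum
import Groth.Agent.ZeroCyc.Points

/-!
# Branches seen on an integral birational geometrically unibranch extension
-/

set_option autoImplicit false

universe u

open CategoryTheory AlgebraicGeometry IsLocalRing

namespace Groth.Agent.BranchBC

open GeomUnib

/-- A map from an integral birational geometrically unibranch extension into the normalisation of the
reduction, bijective on geometric points over the closed point. -/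
theorem exists_toNormRed {A C : CommRingCat.{u}} [IsLocalRing A] (φ : A ⟶ C)
    (hfin : (minimalPrimes A).Finite) (hint : φ.hom.IsIntegral) (hf : RadPt.IsBirational (Spec.map φ))
    (hGU : ∀ (m : Ideal C) [m.IsPrime], m.comap φ.hom = maximalIdeal A →
      CAlg2.IsGeomUnibranch (Localization.AtPrime m)) :
    ∃ α : C →+* CAlg2.normRed A, α.comp φ.hom = ReducedNormalization.toNorm A ∧
      (∀ s t : CAlg2.normRed A →+* AlgebraicClosure (ResidueField A),
        s.comp (ReducedNormalization.toNorm A) = Brnch.toClosure A →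
        t.comp (ReducedNormalization.toNorm A) = Brnch.toClosure A → s.comp α = t.comp α → s = t) ∧
      ∀ χ : C →+* AlgebraicClosure (ResidueField A), χ.comp φ.hom = Brnch.toClosure A →
        ∃ s : CAlg2.normRed A →+* AlgebraicClosure (ResidueField A),
          s.comp (ReducedNormalization.toNorm A) = Brnch.toClosure A ∧ s.comp α = χ := by
  classical
  letI := φ.hom.toAlgebra
  haveI : Algebra.IsIntegral A C := ⟨hint⟩
  have hprime : ∀ p : minimalPrimes A, p.1.IsPrime := fun p => p.2.1.1
  haveI : Finite (minimalPrimes A) := hfin.to_subtype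
  haveI : Finite (ReducedNormalization.Comp (CAlg2.red A)) :=
    Finite.of_equiv _ (ReducedNormalization.compEquiv A)
  obtain ⟨Φ, hΦ⟩ := ReducedNormalization.exists_normRedPi (A := A)
  let Ω := AlgebraicClosure (ResidueField A)
  have hker : ∀ χ : C →+* Ω, χ.comp φ.hom = Brnch.toClosure A →
      (RingHom.ker χ).comap φ.hom = maximalIdeal A := fun χ h => by
    rw [RingHom.comap_ker, h, Brnch.toClosure, RingHom.ker_comp_of_injective _ (RingHom.injective _)]
    exact Ideal.mk_ker
  choose P ψ hPmin hψ hkerψ huniq using fun p : minimalPrimes A =>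
    (haveI := hprime p; BiratUnib.exists_point φ hf p.1 p.2)
  have hPprime : ∀ p, (P p).IsPrime := fun p => (hPmin p).1.1
  have hmin_unique : ∀ (m : Ideal C) [m.IsPrime], m.comap φ.hom = maximalIdeal A →
      ∀ Q₁ Q₂ : Ideal C, Q₁ ∈ minimalPrimes C → Q₂ ∈ minimalPrimes C → Q₁ ≤ m → Q₂ ≤ m → Q₁ = Q₂ := by
    intro m _ hm Q₁ Q₂ h₁ h₂ l₁ l₂
    obtain ⟨-, hu⟩ := BiratUnib.eq_nilradical_of_isDomain_red (hGU m hm).1.1
    have key : ∀ Q : Ideal C, Q ∈ minimalPrimes C → Q ≤ m →
        (nilradical (Localization.AtPrime m)).comap (algebraMap C _) = Q := by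
      intro Q hQ hQm
      haveI : Q.IsPrime := hQ.1.1
      have hd : Disjoint (m.primeCompl : Set C) (Q : Set C) :=
        Set.disjoint_left.2 fun x hx hxQ => hx (hQm hxQ)
      have hp := IsLocalization.isPrime_of_isPrime_disjoint m.primeCompl (Localization.AtPrime m) Q inferInstance hd
      have hc : (Q.map (algebraMap C (Localization.AtPrime m))).comap (algebraMap C _) = Q :=
        IsLocalization.comap_map_of_isPrime_disjoint m.primeCompl _ inferInstance hd
      have hmin : Q.map (algebraMap C (Localization.AtPrime m)) ∈ minimalPrimes (Localization.AtPrime m) := by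
        refine ⟨⟨hp, bot_le⟩, fun R hR hle => ?_⟩
        haveI : R.IsPrime := hR.1
        have h3 : Q ≤ R.comap (algebraMap C _) :=
          hQ.2 ⟨Ideal.IsPrime.comap _, bot_le⟩ ((Ideal.comap_mono hle).trans hc.le)
        exact Ideal.map_le_iff_le_comap.2 h3
      rw [← hu _ hmin, hc]
    rw [← key Q₁ h₁ l₁, ← key Q₂ h₂ l₂]
  -- componentwise comparison
  have hcomp : ∀ p : minimalPrimes A, ∃ β : C →+* CAlg2.normRed (A ⧸ p.1), P p ≤ RingHom.ker β ∧
      (∀ a, β (φ.hom a) = ReducedNormalization.toNorm (A ⧸ p.1) (Ideal.Quotient.mk p.1 a)) ∧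
      (∀ s t : CAlg2.normRed (A ⧸ p.1) →+* Ω,
        (∀ a, s (ReducedNormalization.toNorm (A ⧸ p.1) (Ideal.Quotient.mk p.1 a)) = Brnch.toClosure A a) →
        s.comp β = t.comp β → s = t) ∧
      ∀ χ : C →+* Ω, χ.comp φ.hom = Brnch.toClosure A → P p ≤ RingHom.ker χ →
        ∃ s : CAlg2.normRed (A ⧸ p.1) →+* Ω, s.comp β = χ := by
    intro p
    haveI := hprime p
    haveI := hPprime p
    obtain ⟨D, _, _, _, _, _, _, _, _, _, _, hD⟩ :=
      BiratUnib.exists_common_normalisation p.1 (P p) (ψ p) (hψ p) (hkerψ p)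
    haveI : IsLocalRing (A ⧸ p.1) := IsLocalRing.of_surjective' _ Ideal.Quotient.mk_surjective
    obtain ⟨θ, hθ, hθc⟩ := exists_surjective_normRed (RingHom.id (A ⧸ p.1)) Function.surjective_id
      (by rw [(RingHom.injective_iff_ker_eq_bot _).1 Function.injective_id]; exact bot_le) D
      (K := p.1.ResidueField)
    let e := RingEquiv.ofBijective θ hθ
    have he : ∀ a : A, e (ReducedNormalization.toNorm (A ⧸ p.1) (Ideal.Quotient.mk p.1 a)) =
        algebraMap (C ⧸ P p) D (Ideal.Quotient.mk (P p) (φ.hom a)) :=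
      fun a => (RingHom.congr_fun hθc (Ideal.Quotient.mk p.1 a)).trans (hD a)
    haveI : Algebra.IsIntegral (C ⧸ P p) D :=
      IsIntegralClosure.isIntegral_algebra (A := D) (C ⧸ P p) p.1.ResidueField
    have hinj : Function.Injective (algebraMap (C ⧸ P p) D) := by
      refine Function.Injective.of_comp (f := algebraMap D p.1.ResidueField) ?_
      rw [← RingHom.coe_comp, ← IsScalarTower.algebraMap_eq]
      exact IsFractionRing.injective _ _
    refine ⟨(e.symm.toRingHom.comp (algebraMap (C ⧸ P p) D)).comp (Ideal.Quotient.mk (P p)), fun v hv => ?_,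
      fun a => ?_, fun s t hsA hst => ?_, fun χ hχ hPχ => ?_⟩
    · rw [RingHom.mem_ker, RingHom.comp_apply, Ideal.Quotient.eq_zero_iff_mem.2 hv, map_zero]
    · change e.symm (algebraMap (C ⧸ P p) D (Ideal.Quotient.mk (P p) (φ.hom a))) = _
      rw [← he, RingEquiv.symm_apply_apply]
    · replace hst : (s.comp e.symm.toRingHom).comp (algebraMap (C ⧸ P p) D) =
          (t.comp e.symm.toRingHom).comp (algebraMap (C ⧸ P p) D) := Ideal.Quotient.ringHom_ext hst
      have hc₀ : ∀ a : A, s (e.symm (algebraMap (C ⧸ P p) D (Ideal.Quotient.mk (P p) (φ.hom a)))) =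
          Brnch.toClosure A a := fun a => by
        rw [← he, RingEquiv.symm_apply_apply]
        exact hsA a
      let c : C ⧸ P p →+* Ω := (s.comp e.symm.toRingHom).comp (algebraMap (C ⧸ P p) D)
      haveI : (RingHom.ker c).IsPrime := RingHom.ker_isPrime _
      let m := (RingHom.ker c).comap (Ideal.Quotient.mk (P p))
      have hm : m.comap φ.hom = maximalIdeal A := by
        change ((RingHom.ker c).comap (Ideal.Quotient.mk (P p))).comap φ.hom = _
        rw [RingHom.comap_ker]
        exact hker _ (RingHom.ext fun a => hc₀ a)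
      let f : Localization.AtPrime m →+* Localization.AtPrime (RingHom.ker c) :=
        Localization.localRingHom m (RingHom.ker c) (Ideal.Quotient.mk (P p)) rfl
      have hfs : Function.Surjective f := by
        intro z
        obtain ⟨x, ⟨y, hy⟩, rfl⟩ := IsLocalization.exists_mk'_eq (RingHom.ker c).primeCompl z
        obtain ⟨x, rfl⟩ := Ideal.Quotient.mk_surjective x
        obtain ⟨y, rfl⟩ := Ideal.Quotient.mk_surjective y
        exact ⟨IsLocalization.mk' _ x (⟨y, hy⟩ : m.primeCompl),
          Localization.localRingHom_mk' _ _ _ rfl _ _⟩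
      have hfk : RingHom.ker f ≤ nilradical (Localization.AtPrime m) := by
        intro z hz
        obtain ⟨x, y, rfl⟩ := IsLocalization.exists_mk'_eq m.primeCompl z
        rw [RingHom.mem_ker, Localization.localRingHom_mk', IsLocalization.mk'_eq_zero_iff] at hz
        obtain ⟨⟨t, ht⟩, htx⟩ := hz
        obtain ⟨t, rfl⟩ := Ideal.Quotient.mk_surjective t
        replace htx : t * x ∈ P p := Ideal.Quotient.eq_zero_iff_mem.1 ((map_mul _ _ _).trans htx)
        have hPm : P p ≤ m := fun v hv => by
          change Ideal.Quotient.mk (P p) v ∈ RingHom.ker c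
          rw [Ideal.Quotient.eq_zero_iff_mem.2 hv]
          exact zero_mem _
        have hxP : x ∈ P p := ((hPprime p).mem_or_mem htx).resolve_left fun h => ht (hPm h)
        rw [nilradical_eq_sInf, Ideal.mem_sInf]
        intro J hJ
        haveI : J.IsPrime := hJ
        obtain ⟨Q, hQ, hQJ⟩ := Ideal.exists_minimalPrimes_le (bot_le : ⊥ ≤ J.comap (algebraMap C _))
        have hQm : Q ≤ m := hQJ.trans fun v hv => by
          by_contra hvm
          exact hJ.ne_top (Ideal.eq_top_of_isUnit_mem _ hv (IsLocalization.map_units _ (⟨v, hvm⟩ : m.primeCompl)))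
        obtain rfl : Q = P p := hmin_unique m hm Q (P p) hQ (hPmin p) hQm hPm
        exact (hJ.mem_or_mem (show IsLocalization.mk' _ x y * algebraMap C _ (y : C) ∈ J by
          rw [IsLocalization.mk'_spec]; exact hQJ hxP)).resolve_right fun h =>
            hJ.ne_top (Ideal.eq_top_of_isUnit_mem _ h (IsLocalization.map_units _ y))
      have hr : RadicialAt D (RingHom.ker c) :=
        radicialAt_of_localization (A := C ⧸ P p) (A' := D) (K := p.1.ResidueField) (RingHom.ker c) (hGU m hm)
          f hfs hfk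
      have := hr Ω (s.comp e.symm.toRingHom) (t.comp e.symm.toRingHom) hst rfl
      refine RingHom.ext fun z => ?_
      simpa using RingHom.congr_fun this (e z)
    · obtain ⟨χ', hχ'⟩ := ZeroCyc.exists_extend (T := D) hinj
        (Ideal.Quotient.lift (P p) χ fun v hv => RingHom.mem_ker.1 (hPχ hv))
      refine ⟨χ'.comp e.toRingHom, RingHom.ext fun z => ?_⟩
      change χ' (e (e.symm (algebraMap _ D (Ideal.Quotient.mk (P p) z)))) = χ z
      rw [RingEquiv.apply_symm_apply]
      exact RingHom.congr_fun hχ' _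
  choose β hβP hβA hβinj hβsurj using hcomp
  let α : C →+* CAlg2.normRed A := Φ.symm.toRingHom.comp (RingHom.pi fun p => β p)
  have hα : ∀ a, α (φ.hom a) = ReducedNormalization.toNorm A a := fun a => by
    apply Φ.injective
    change Φ (Φ.symm _) = _
    rw [RingEquiv.apply_symm_apply]
    exact funext fun p => (hβA p a).trans (hΦ a p).symm
  -- every geometric point of the normalisation lies on one component
  have hfac : ∀ s : CAlg2.normRed A →+* Ω, s.comp (ReducedNormalization.toNorm A) = Brnch.toClosure A →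
      ∃ (p : minimalPrimes A) (τ : CAlg2.normRed (A ⧸ p.1) →+* Ω), (∀ x, s x = τ (Φ x p)) ∧
        (∀ a, τ (ReducedNormalization.toNorm (A ⧸ p.1) (Ideal.Quotient.mk p.1 a)) = Brnch.toClosure A a) ∧
        s.comp α = τ.comp (β p) ∧ P p ≤ RingHom.ker (s.comp α) := by
    intro s hs
    obtain ⟨p, τ, hτ⟩ := ReducedNormalization.exists_unique_factor (s.comp Φ.symm.toRingHom)
    have hx : ∀ x, s x = τ (Φ x p) := fun x => by
      have := RingHom.congr_fun hτ (Φ x)
      simpa using this.symm
    have hc : s.comp α = τ.comp (β p) := RingHom.ext fun z => by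
      rw [RingHom.comp_apply, hx]
      exact congrArg τ (congrFun (Φ.apply_symm_apply _) p)
    refine ⟨p, τ, hx, fun a => ?_, hc, fun v hv => ?_⟩
    · rw [← hΦ, ← hx]
      exact RingHom.congr_fun hs a
    · rw [hc, RingHom.mem_ker, RingHom.comp_apply, RingHom.mem_ker.1 (hβP p hv), map_zero]
  refine ⟨α, RingHom.ext hα, fun s t hs ht hst => ?_, fun χ hχ => ?_⟩
  · obtain ⟨p, τ, hxs, hτA, hsc, hsP⟩ := hfac s hs
    obtain ⟨q, ρ, hxt, hρA, htc, htP⟩ := hfac t ht
    have hover : (s.comp α).comp φ.hom = Brnch.toClosure A := by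
      rw [RingHom.comp_assoc, show α.comp φ.hom = _ from RingHom.ext hα]
      exact hs
    haveI : (RingHom.ker (s.comp α)).IsPrime := RingHom.ker_isPrime _
    have hPP : P p = P q := hmin_unique (RingHom.ker (s.comp α)) (hker _ hover) _ _ (hPmin p) (hPmin q) hsP (hst ▸ htP)
    have hpq : p = q := Subtype.ext (by
      haveI := hprime p
      haveI := hprime q
      rw [← Ideal.ker_algebraMap_residueField p.1, ← Ideal.ker_algebraMap_residueField q.1, ← hψ p, ← hψ q,
        ← RingHom.comap_ker, ← RingHom.comap_ker, hkerψ p, hkerψ q, hPP])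
    subst hpq
    have : τ = ρ := hβinj p τ ρ hτA (hsc.symm.trans (hst.trans htc))
    exact RingHom.ext fun x => by rw [hxs, hxt, this]
  · haveI : (RingHom.ker χ).IsPrime := RingHom.ker_isPrime _
    obtain ⟨Q, hQ, hQle⟩ := Ideal.exists_minimalPrimes_le (bot_le : ⊥ ≤ RingHom.ker χ)
    let p : minimalPrimes A := ⟨_, BiratUnib.comap_mem_minimalPrimes φ hf Q hQ⟩
    have hQP : Q = P p := huniq p Q hQ.1.1 rfl
    obtain ⟨τ, hτ⟩ := hβsurj p χ hχ (fun v hv => hQle (hQP.ge hv))
    refine ⟨(τ.comp (Pi.evalRingHom _ p)).comp Φ.toRingHom, RingHom.ext fun a => ?_, RingHom.ext fun z => ?_⟩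
    · change τ (Φ (ReducedNormalization.toNorm A a) p) = _
      rw [hΦ, ← hβA]
      exact (RingHom.congr_fun hτ _).trans (RingHom.congr_fun hχ a)
    · change τ (Φ (Φ.symm _) p) = _
      rw [RingEquiv.apply_symm_apply]
      exact RingHom.congr_fun hτ z

/-- Branches are the points over the closed point of an integral birational geometrically unibranch extension. -/
theorem numBranches_eq_card {A C : CommRingCat.{u}} [IsLocalRing A] (φ : A ⟶ C)
    (hfin : (minimalPrimes A).Finite) (hint : φ.hom.IsIntegral) (hf : RadPt.IsBirational (Spec.map φ))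
    (hGU : ∀ (m : Ideal C) [m.IsPrime], m.comap φ.hom = maximalIdeal A →
      CAlg2.IsGeomUnibranch (Localization.AtPrime m)) :
    Brnch.numBranches A = ENat.card (MaximalSpectrum C) := by
  obtain ⟨α, hα, hinj, hsurj⟩ := exists_toNormRed φ hfin hint hf hGU
  have hintN : (ReducedNormalization.toNorm A).IsIntegral :=
    RingHom.IsIntegral.trans _ _ (RingHom.isIntegral_of_surjective _ Ideal.Quotient.mk_surjective)
      (algebraMap_isIntegral_iff.2 inferInstance)
  have hαint : α.IsIntegral := RingHom.IsIntegral.tower_top φ.hom α (hα.symm ▸ hintN)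
  rw [Brnch.numBranches, if_pos hfin]
  -- geometric points with a given kernel
  have hpt : ∀ {R : Type u} [CommRing R] (f : A →+* R), f.IsIntegral → ∀ m : MaximalSpectrum R,
      ∃ χ : R →+* AlgebraicClosure (ResidueField A), χ.comp f = Brnch.toClosure A ∧ RingHom.ker χ = m.asIdeal := by
    intro R _ f hfi m
    haveI := m.isMaximal
    letI := f.toAlgebra
    haveI : Algebra.IsIntegral A R := ⟨hfi⟩
    have hc : maximalIdeal A = m.asIdeal.comap f :=
      (eq_maximalIdeal (Ideal.isMaximal_comap_of_isIntegral_of_isMaximal (R := A) m.asIdeal)).symm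
    letI := Ideal.Quotient.field m.asIdeal
    letI : Algebra (ResidueField A) (R ⧸ m.asIdeal) := (Ideal.quotientMap m.asIdeal f hc.le).toAlgebra
    haveI : IsScalarTower A (ResidueField A) (R ⧸ m.asIdeal) := IsScalarTower.of_algebraMap_eq fun _ => rfl
    haveI : Algebra.IsIntegral (ResidueField A) (R ⧸ m.asIdeal) := Algebra.IsIntegral.tower_top (R := A)
    let i : R ⧸ m.asIdeal →ₐ[ResidueField A] AlgebraicClosure (ResidueField A) := IsAlgClosed.lift
    refine ⟨i.toRingHom.comp (Ideal.Quotient.mk _), RingHom.ext fun a => ?_, ?_⟩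
    · exact i.commutes (residue A a)
    · rw [RingHom.ker_comp_of_injective _ i.injective, Ideal.mk_ker]
  refine ENat.card_congr (Equiv.ofBijective
    (fun m => ⟨m.asIdeal.comap α, haveI := m.isMaximal;
      Ideal.isMaximal_comap_of_isIntegral_of_isMaximal' α hαint m.asIdeal⟩) ⟨fun m n h => ?_, fun m => ?_⟩)
  · replace h : m.asIdeal.comap α = n.asIdeal.comap α := congrArg MaximalSpectrum.asIdeal h
    obtain ⟨s, hs, hks⟩ := hpt _ hintN m
    -- extend the same point of `C` to `n`
    haveI := n.isMaximal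
    letI := α.toAlgebra
    haveI : Algebra.IsIntegral C (CAlg2.normRed A) := ⟨hαint⟩
    letI := Ideal.Quotient.field n.asIdeal
    let K₀ := C ⧸ n.asIdeal.comap α
    haveI : (n.asIdeal.comap α).IsMaximal := Ideal.isMaximal_comap_of_isIntegral_of_isMaximal' α hαint n.asIdeal
    letI : Field K₀ := Ideal.Quotient.field _
    letI : Algebra K₀ (CAlg2.normRed A ⧸ n.asIdeal) := (Ideal.quotientMap n.asIdeal α le_rfl).toAlgebra
    haveI : IsScalarTower C K₀ (CAlg2.normRed A ⧸ n.asIdeal) := IsScalarTower.of_algebraMap_eq fun _ => rfl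
    haveI : Algebra.IsIntegral K₀ (CAlg2.normRed A ⧸ n.asIdeal) := Algebra.IsIntegral.tower_top (R := C)
    let c : K₀ →+* AlgebraicClosure (ResidueField A) := Ideal.Quotient.lift _ (s.comp α) fun v hv => by
      have : α v ∈ RingHom.ker s := hks.ge (h.ge hv)
      exact this
    letI : Algebra K₀ (AlgebraicClosure (ResidueField A)) := c.toAlgebra
    let i : CAlg2.normRed A ⧸ n.asIdeal →ₐ[K₀] AlgebraicClosure (ResidueField A) := IsAlgClosed.lift
    let t := i.toRingHom.comp (Ideal.Quotient.mk n.asIdeal)
    have htα : t.comp α = s.comp α := RingHom.ext fun z => i.commutes (Ideal.Quotient.mk _ z)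
    have htA : t.comp (ReducedNormalization.toNorm A) = Brnch.toClosure A := by
      rw [← hα, ← RingHom.comp_assoc, htα, RingHom.comp_assoc, hα, hs]
    refine MaximalSpectrum.ext ?_
    rw [← hks, hinj s t hs htA htα.symm, RingHom.ker_comp_of_injective _ i.injective, Ideal.mk_ker]
  · obtain ⟨χ, hχ, hkχ⟩ := hpt φ.hom hint m
    obtain ⟨s, hs, hsα⟩ := hsurj χ hχ
    haveI hp : (RingHom.ker s).IsPrime := RingHom.ker_isPrime _
    have hm : (RingHom.ker s).IsMaximal := by
      refine Ideal.isMaximal_of_isIntegral_of_isMaximal_comap' α hαint _ ?_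
      rw [RingHom.comap_ker, hsα, hkχ]
      exact m.isMaximal
    exact ⟨⟨RingHom.ker s, hm⟩, MaximalSpectrum.ext (((RingHom.comap_ker s α).trans (congrArg RingHom.ker hsα)).trans hkχ)⟩

end Groth.Agent.BranchBC
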